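import Mathlib
import Cfsg.Agent.Lib.Helper50.CAI.Defs

set_option autoImplicit false

/-! CAI (S2202) package [FIX2] (helper97, second seat): a non-identity element of a two-point
stabilizer fixes exactly two points.  Counting-free proof: from a third fixed point `R` build
`x = u₃ u₂ u₁` (three swaps) fixing `P` and inverting `d`; an odd power of `x` is an involution
in `P` inverting `d`, which forces `d² ∈ P ∩ Dz P Q = 1`. -/

namespace Cfsg.Agent.Lib.Helper97.CAI

open Cfsg.Agent.Lib.Helper50.CAI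

universe u

/-- an involution `u` with `u d u = d⁻¹` satisfies `u d = d⁻¹ u`. -/
theorem inv_rel {G : Type u} [Group G] {u d : G} (hu : u * u = 1) (h : u * d * u = d⁻¹) :
    u * d = d⁻¹ * u := by
  have : u * d * u * u = d⁻¹ * u := by rw [h]
  rwa [mul_assoc (u * d), hu, mul_one] at this

/-- `x d = d⁻¹ x` implies `x d⁻¹ = d x`. -/
theorem inv_rel' {G : Type u} [Group G] {x d : G} (h : x * d = d⁻¹ * x) : x * d⁻¹ = d * x := by
  have : d * (x * d) * d⁻¹ = d * (d⁻¹ * x) * d⁻¹ := by rw [h]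
  simp only [mul_assoc, mul_inv_cancel, mul_one, mul_inv_cancel_left] at this
  exact this.symm

theorem mem_Dz_iff {G : Type u} [Group G] {P Q : Sylow 2 G} {d : G} :
    d ∈ Dz P Q ↔ d • P = P ∧ d • Q = Q := by
  unfold Dz
  rw [Subgroup.mem_inf, MulAction.mem_stabilizer_iff, MulAction.mem_stabilizer_iff]

/-- [FIX2]. -/
theorem pkgFix2 (hB : PkgBasic.{u}) : PkgFix2.{u} := by
  intro G _ _ hyp _hBTI hSwap hInv P Q hPQ d hd hd1 R hR
  by_contra hcon
  push Not at hcon
  obtain ⟨hRP, hRQ⟩ := hcon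
  obtain ⟨hdP, hdQ⟩ := mem_Dz_iff.mp hd
  have hIPQ := hInv P Q hPQ
  -- `d * d = 1` is impossible
  have hdd : d * d ≠ 1 := by
    intro h
    have h2 : orderOf d = 2 := orderOf_eq_prime (by rw [pow_two]; exact h) hd1
    exact hIPQ.odd d hd hd1 d h2 rfl
  -- the three swaps
  obtain ⟨u1, hu1o, hu1⟩ := (hSwap P R (Ne.symm hRP)).1
  obtain ⟨u2, hu2o, hu2⟩ := (hSwap R Q hRQ).1
  obtain ⟨u3, hu3o, hu3⟩ := (hSwap Q P (Ne.symm hPQ)).1
  have sq : ∀ u : G, orderOf u = 2 → u * u = 1 := by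
    intro u hu
    have := pow_orderOf_eq_one u
    rwa [hu, pow_two] at this
  have r1 : u1 * d = d⁻¹ * u1 :=
    inv_rel (sq u1 hu1o) ((hInv P R (Ne.symm hRP)).inv u1 hu1o hu1 d (mem_Dz_iff.mpr ⟨hdP, hR⟩))
  have r2 : u2 * d = d⁻¹ * u2 :=
    inv_rel (sq u2 hu2o) ((hInv R Q hRQ).inv u2 hu2o hu2 d (mem_Dz_iff.mpr ⟨hR, hdQ⟩))
  have r3 : u3 * d = d⁻¹ * u3 :=
    inv_rel (sq u3 hu3o) ((hInv Q P (Ne.symm hPQ)).inv u3 hu3o hu3 d (mem_Dz_iff.mpr ⟨hdQ, hdP⟩))
  set x : G := u3 * u2 * u1 with hx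
  have hxP : x • P = P := by
    rw [hx, mul_smul, mul_smul, hu1, hu2, hu3]
  have rx : x * d = d⁻¹ * x := by
    rw [hx]
    calc u3 * u2 * u1 * d = u3 * u2 * (u1 * d) := by group
      _ = u3 * (u2 * d⁻¹) * u1 := by rw [r1]; group
      _ = (u3 * d) * u2 * u1 := by rw [inv_rel' r2]; group
      _ = d⁻¹ * (u3 * u2 * u1) := by rw [r3]; group
  have rx' : x * d⁻¹ = d * x := inv_rel' rx
  set y : G := x * x with hy
  have ry : y * d = d * y := by
    rw [hy]
    calc x * x * d = x * (x * d) := by group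
      _ = (x * d⁻¹) * x := by rw [rx]; group
      _ = d * (x * x) := by rw [rx']; group
  have ryj : ∀ j : ℕ, y ^ j * d = d * y ^ j := by
    intro j
    exact (Commute.pow_left (show Commute y d from ry) j).eq
  have ryj' : ∀ j : ℕ, y ^ j * d⁻¹ = d⁻¹ * y ^ j := by
    intro j
    exact (Commute.inv_right (Commute.pow_left (show Commute y d from ry) j)).eq
  -- the order of `y` is odd
  have hk0 : 0 < orderOf y := orderOf_pos y
  have hkodd : Odd (orderOf y) := by
    rcases Nat.even_or_odd (orderOf y) with he | ho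
    · exfalso
      obtain ⟨j, hj⟩ := he
      have hj0 : 0 < j := by omega
      have hz1 : y ^ j ≠ 1 := by
        intro h
        have := orderOf_dvd_of_pow_eq_one h
        have := Nat.le_of_dvd hj0 this
        omega
      have hz2 : (y ^ j) ^ 2 = 1 := by
        rw [← pow_mul, show j * 2 = orderOf y by omega, pow_orderOf_eq_one]
      have hzo : orderOf (y ^ j) = 2 := orderOf_eq_prime hz2 hz1
      exact hIPQ.odd d hd hd1 (y ^ j) hzo (ryj j)
    · exact ho
  obtain ⟨j, hj⟩ := hkodd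
  set t : G := y ^ j * x with ht
  have hxy : x * y = y * x := by rw [hy]; group
  have hxyj : x * y ^ j = y ^ j * x :=
    (Commute.pow_right (show Commute x y from hxy) j).eq
  have htt : t * t = 1 := by
    rw [ht]
    calc y ^ j * x * (y ^ j * x) = y ^ j * (x * y ^ j) * x := by group
      _ = y ^ j * (y ^ j * x) * x := by rw [hxyj]
      _ = y ^ j * y ^ j * (x * x) := by group
      _ = y ^ (2 * j + 1) := by rw [← hy, ← pow_add, ← pow_succ]; congr 1; omega
      _ = 1 := by rw [← hj, pow_orderOf_eq_one]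
  have rt : t * d = d⁻¹ * t := by
    rw [ht]
    calc y ^ j * x * d = y ^ j * (x * d) := by group
      _ = (y ^ j * d⁻¹) * x := by rw [rx]; group
      _ = d⁻¹ * (y ^ j * x) := by rw [ryj']; group
  have ht1 : t ≠ 1 := by
    intro h
    rw [h, one_mul, mul_one] at rt
    apply hdd
    calc d * d = d * d⁻¹ := by rw [← rt]
      _ = 1 := mul_inv_cancel d
  have htP : t • P = P := by
    rw [ht, mul_smul, hxP]
    have hyP : y • P = P := by rw [hy, mul_smul, hxP, hxP]
    have : ∀ i : ℕ, y ^ i • P = P := by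
      intro i
      induction i with
      | zero => simp
      | succ i ih => rw [pow_succ, mul_smul, hyP, ih]
    exact this j
  have hBP := hB hyp P
  have htmem : t ∈ (P : Subgroup G) :=
    hBP.fix2 t htP ⟨1, by rw [pow_one, pow_two]; exact htt⟩
  have hdn := Sylow.smul_eq_iff_mem_normalizer.mp hdP
  have hdt : d * t * d⁻¹ ∈ (P : Subgroup G) :=
    (Subgroup.mem_set_normalizer_iff.mp hdn t).mp htmem
  have hprod : t * (d * t * d⁻¹) ∈ (P : Subgroup G) := mul_mem htmem hdt
  have heq : t * (d * t * d⁻¹) = (d * d)⁻¹ := by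
    calc t * (d * t * d⁻¹) = (t * d) * t * d⁻¹ := by group
      _ = d⁻¹ * (t * t) * d⁻¹ := by rw [rt]; group
      _ = (d * d)⁻¹ := by rw [htt]; group
  rw [heq] at hprod
  have hddP : d * d ∈ (P : Subgroup G) := by
    have := inv_mem hprod
    rwa [inv_inv] at this
  have hddC : d * d ∈ Cz P := hBP.le hddP
  exact hdd (hIPQ.triv (d * d) (mul_mem hd hd) hddC)

end Cfsg.Agent.Lib.Helper97.CAI
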